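import Groth.Agent.S1585
import Groth.Agent.Mor.K385.NormLift
import Groth.Agent.Ega4dA.SmoothStalk
import Groth.Agent.Sga7.H756.NormStalk
import Groth.Agent.Sga5.AmpleFib
import Groth.Agent.CalgB.AmpleProj
import Groth.Agent.CalgB.ProjImm2
import Groth.Agent.Ega2.AmpleVery
import Groth.Agent.Ega2.Normal
import Groth.Agent.Ega3A.PChart
import Groth.Agent.Ega3B.ProjProper
import Groth.Agent.AbVar.K528.Irr
import Groth.Agent.AlgGrp.K406.GrpInt
import Groth.Agent.AlgGrp.K403.Dense
import Groth.Prelude.Def_AlgGrp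
import Groth.Prelude.Def_CohB1
import Groth.Prelude.Def_Pi1

/-!
# Normalisation of an equivariant projective completion

* `exists_closedImmersion`: a scheme finite over a projective scheme over a field is projective.
* `exists_act`: a connected smooth group over an algebraically closed field acting on an integral scheme of finite type
  acts on its normalisation.
* `exists_normal`: the normalisation of an equivariant projective completion of a smooth `G`-scheme.
-/

set_option autoImplicit false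
universe u
open CategoryTheory CategoryTheory.Limits MonoidalCategory CartesianMonoidalCategory MonObj
  AlgebraicGeometry

namespace K492.EqNorm

open Groth.Agent

/-- A scheme finite over a projective scheme is projective. -/
theorem exists_closedImmersion {k : Type u} [Field k] {X Y : Scheme.{u}} (n : ℕ) (c : X ⟶ CohB1.ProjSpace n k)
    [IsClosedImmersion c] (ν : Y ⟶ X) [IsFinite ν] :
    ∃ (n' : ℕ) (c' : Y ⟶ CohB1.ProjSpace n' k), IsClosedImmersion c' ∧
      c' ≫ CohB1.ProjSpace.toSpec n' k = ν ≫ c ≫ CohB1.ProjSpace.toSpec n k := by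
  obtain ⟨E, hE⟩ := CalgB.AmpleProj.exists_isAmple_projSpace n k
  have hL := Sga5.AmpleFib.isAmple_pullback (ν ≫ c) hE
  have hpr : ∀ n, IsProper (CohB1.ProjSpace.toSpec n k) := fun n => Ega3B.ProjProper.isProper_toSpec n k
  have h2 : IsProper (ν ≫ c ≫ CohB1.ProjSpace.toSpec n k) := inferInstance
  obtain ⟨n₀, h0⟩ := Ega2.AmpleVery.exists_forall_isRelVeryAmplePn (ν ≫ c ≫ CohB1.ProjSpace.toSpec n k) hL
  obtain ⟨m, i, hi, hs, -⟩ := h0 n₀ le_rfl
  let d := Ega3A.PChart.chart m (𝟙 (Spec (CommRingCat.of k)))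
  have hpb := Ega3A.PChart.isPullback_chart m (𝟙 (Spec (CommRingCat.of k)))
  have hd : IsIso d := hpb.isIso_fst_of_isIso
  have hdb : d ≫ CohB1.ProjSpaceOver.toBase m (Spec (CommRingCat.of k)) = CohB1.ProjSpace.toSpec m k := by
    rw [Ega3A.PChart.chart_toBase, Category.comp_id]
  have hsec : (i ≫ inv d) ≫ CohB1.ProjSpace.toSpec m k = ν ≫ c ≫ CohB1.ProjSpace.toSpec n k := by
    rw [← hdb, Category.assoc, IsIso.inv_hom_id_assoc]
    exact hs
  refine ⟨m, i ≫ inv d, ?_, hsec⟩
  have h1 : IsImmersion (i ≫ inv d) := inferInstance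
  have : IsProper ((i ≫ inv d) ≫ CohB1.ProjSpace.toSpec m k) := by rw [hsec]; infer_instance
  exact CalgB.ProjImm.isClosedImmersion_of_isImmersion_of_isProper (i ≫ inv d) (CohB1.ProjSpace.toSpec m k)

section Lift

variable {S : Scheme.{u}} (X : Over S) [IsIntegral X.left] [QuasiCompact (X.left.fromSpecStalk (genericPoint X.left))]
  [QuasiSeparated (X.left.fromSpecStalk (genericPoint X.left))]

/-- The normalisation as an object over the base. -/
noncomputable abbrev nor : Over S := Over.mk (Curv2.normalizationι X.left ≫ X.hom)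

/-- The projection of the normalisation. -/
noncomputable abbrev ν : nor X ⟶ X := Over.homMk (Curv2.normalizationι X.left) rfl

theorem exists_lift {T : Over S} [IsIntegral T.left] (t : T ⟶ X) [IsDominant t.left]
    (hT : Pi1.IsNormalScheme T.left) : ∃ h : T ⟶ nor X, h ≫ ν X = t := by
  obtain ⟨h, hh, -⟩ := K385.NormLift.existsUnique_lift X.left t.left hT
    (fun x => Sga7.H756.NormStalk.stalkMap_injective t.left x)
  have hh' : h ≫ Curv2.normalizationι X.left = t.left := hh
  refine ⟨Over.homMk h ?_, ?_⟩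
  · change h ≫ Curv2.normalizationι X.left ≫ X.hom = T.hom
    rw [← Category.assoc, hh', Over.w]
  · ext1
    exact hh'

theorem lift_ext {T : Over S} [IsIntegral T.left] (h h' : T ⟶ nor X) [IsDominant (h ≫ ν X).left]
    (hT : Pi1.IsNormalScheme T.left) (e : h ≫ ν X = h' ≫ ν X) : h = h' := by
  obtain ⟨g, hg, hu⟩ := K385.NormLift.existsUnique_lift X.left (h ≫ ν X).left hT
    (fun x => Sga7.H756.NormStalk.stalkMap_injective (h ≫ ν X).left x)
  ext1
  rw [hu h.left rfl, hu h'.left (congrArg (fun z => z.left) e.symm)]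

end Lift

theorem isNormalScheme_spec (A : Type u) [CommRing A] [IsDomain A] [IsIntegrallyClosed A] :
    Pi1.IsNormalScheme (Spec (CommRingCat.of A)) := by
  intro x
  have hx : x.asIdeal.IsPrime := x.isPrime
  let _ : Algebra A ((Spec (CommRingCat.of A)).presheaf.stalk x) := StructureSheaf.stalkAlgebra A x
  have h1 : IsLocalization.AtPrime ((Spec (CommRingCat.of A)).presheaf.stalk x) x.asIdeal :=
    StructureSheaf.IsLocalization.to_stalk A x
  have h2 : IsDomain ((Spec (CommRingCat.of A)).presheaf.stalk x) :=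
    IsLocalization.isDomain_of_atPrime _ x.asIdeal
  exact ⟨h2, isIntegrallyClosed_of_isLocalization _ x.asIdeal.primeCompl
    x.asIdeal.primeCompl_le_nonZeroDivisors⟩

theorem surjective_of_section {S : Scheme.{u}} {A B : Over S} (f : A ⟶ B) (s : B ⟶ A) (h : s ≫ f = 𝟙 B) :
    Surjective f.left := by
  refine ⟨fun b => ⟨s.left b, ?_⟩⟩
  have h1 : s.left ≫ f.left = 𝟙 B.left := by
    rw [← Over.comp_left, h, Over.id_left]
  rw [← Scheme.Hom.comp_apply, h1]
  rfl

section Act

variable {k : Type u} [Field k] {G X : Over (Spec (CommRingCat.of k))} [GrpObj G]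

theorem surjective_of_one_act (m : G ⊗ X ⟶ X) (h : (η[G] ▷ X) ≫ m = (λ_ X).hom) : Surjective m.left :=
  surjective_of_section m (lift (toUnit X ≫ η[G]) (𝟙 X)) (by
    have h1 : lift (toUnit X ≫ η[G]) (𝟙 X) = (λ_ X).inv ≫ (η[G] ▷ X) := by
      apply CartesianMonoidalCategory.hom_ext <;> simp
    rw [h1, Category.assoc, h, Iso.inv_hom_id])

theorem surjective_mul_whiskerRight : Surjective (μ[G] ▷ X).left :=
  surjective_of_section (μ[G] ▷ X) (lift (toUnit G ≫ η[G]) (𝟙 G) ▷ X) (by
    rw [← comp_whiskerRight]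
    have h1 : lift (toUnit G ≫ η[G]) (𝟙 G) ≫ μ[G] = 𝟙 G := by simp
    rw [h1, id_whiskerRight])

instance smooth_unit : Smooth (𝟙_ (Over (Spec (CommRingCat.of k)))).hom :=
  inferInstanceAs (Smooth (𝟙 (Spec (CommRingCat.of k))))

instance isIntegral_unit : IsIntegral (𝟙_ (Over (Spec (CommRingCat.of k)))).left :=
  inferInstanceAs (IsIntegral (Spec (CommRingCat.of k)))

theorem isNormal_tensor (W Y : Over (Spec (CommRingCat.of k))) [Smooth W.hom] (hY : Pi1.IsNormalScheme Y.left) :
    Pi1.IsNormalScheme (W ⊗ Y).left := fun x => by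
  have : Smooth (snd W Y).left := inferInstanceAs (Smooth (pullback.snd W.hom Y.hom))
  exact Ega4dA.SmoothStalk.stalk_of_smooth hY (snd W Y).left x

/-- The action of a smooth connected group lifts to the normalisation. -/
theorem exists_act [IsAlgClosed k] [Smooth G.hom] [ConnectedSpace ↥G.left] [IsIntegral X.left]
    [LocallyOfFiniteType X.hom] [QuasiCompact (X.left.fromSpecStalk (genericPoint X.left))]
    [QuasiSeparated (X.left.fromSpecStalk (genericPoint X.left))] (a : AlgGrp.Action G X)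
    [IsIntegral (nor X).left] (hn : Pi1.IsNormalScheme (nor X).left) [Surjective (ν X).left] :
    ∃ b : AlgGrp.Action G (nor X), (G ◁ ν X) ≫ a.act = b.act ≫ ν X := by
  have hG : IsIntegral G.left := K406.GrpInt.isIntegral_grp G
  have hGG : IsIntegral (G ⊗ G).left := K528.Irr.isIntegral_tensor G G
  have hsGG : Smooth (G ⊗ G).hom := inferInstanceAs (Smooth (pullback.fst G.hom G.hom ≫ G.hom))
  have i1 : IsIntegral (G ⊗ nor X).left := K528.Irr.isIntegral_tensor G (nor X)
  have i2 : IsIntegral (𝟙_ (Over (Spec (CommRingCat.of k))) ⊗ nor X).left := K528.Irr.isIntegral_tensor _ (nor X)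
  have i3 : IsIntegral ((G ⊗ G) ⊗ nor X).left := K528.Irr.isIntegral_tensor (G ⊗ G) (nor X)
  have hsa : Surjective a.act.left := surjective_of_one_act a.act a.one_act
  have hsν : Surjective (G ◁ ν X).left :=
    MorphismProperty.of_isPullback (K403.Dense.isPullback_whiskerLeft_left (ν X) G) ‹Surjective (ν X).left›
  have hd : IsDominant ((G ◁ ν X) ≫ a.act).left := by rw [Over.comp_left]; infer_instance
  obtain ⟨m, hm⟩ := exists_lift X ((G ◁ ν X) ≫ a.act) (isNormal_tensor G (nor X) hn)
  have h1 : (η[G] ▷ nor X) ≫ m = (λ_ (nor X)).hom := by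
    have : IsDominant ((λ_ (nor X)).hom ≫ ν X).left := by
      have : IsIso (λ_ (nor X)).hom.left := inferInstanceAs (IsIso ((Over.forget _).map (λ_ (nor X)).hom))
      rw [Over.comp_left]; infer_instance
    refine (lift_ext X (λ_ (nor X)).hom ((η[G] ▷ nor X) ≫ m) (isNormal_tensor _ (nor X) hn) ?_).symm
    rw [Category.assoc, hm, ← whisker_exchange_assoc, a.one_act, leftUnitor_naturality]
  have hsm : Surjective m.left := surjective_of_one_act m h1
  refine ⟨⟨m, h1, ?_⟩, hm.symm⟩
  have : IsDominant (((μ[G] ▷ nor X) ≫ m) ≫ ν X).left := by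
    have := surjective_mul_whiskerRight (G := G) (X := nor X)
    rw [Over.comp_left, Over.comp_left]
    infer_instance
  refine lift_ext X _ _ (isNormal_tensor (G ⊗ G) (nor X) hn) ?_
  rw [Category.assoc, hm, ← whisker_exchange_assoc, a.mul_act, Category.assoc, Category.assoc, hm,
    ← MonoidalCategory.whiskerLeft_comp_assoc, hm]
  simp

end Act

/-- An open immersion from a normal scheme lifts to an open immersion into the normalisation. -/
theorem isOpen_lift {k : Type u} [Field k] {X₀ : Over (Spec (CommRingCat.of k))} (X : Over (Spec (CommRingCat.of k)))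
    [IsIntegral X.left] [QuasiCompact (X.left.fromSpecStalk (genericPoint X.left))]
    [QuasiSeparated (X.left.fromSpecStalk (genericPoint X.left))] [IsIntegral (nor X).left] [IsFinite (ν X).left]
    (u : X₀ ⟶ X) [IsOpenImmersion u.left] [Nonempty X₀.left] (hn₀ : Pi1.IsNormalScheme X₀.left) (u' : X₀ ⟶ nor X)
    (hu' : u' ≫ ν X = u) : IsOpenImmersion u'.left := by
  have hu'' : u'.left ≫ (ν X).left = u.left := by rw [← Over.comp_left, hu']
  let V : X.left.Opens := u.left.opensRange
  have hV : Set.range u'.left ⊆ Set.range ((ν X).left ⁻¹ᵁ V).ι := by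
    rw [Scheme.Opens.range_ι]
    rintro _ ⟨x, rfl⟩
    change (ν X).left (u'.left x) ∈ V
    rw [← Scheme.Hom.comp_apply, hu'']
    exact ⟨x, rfl⟩
  let s : X₀.left ⟶ ((ν X).left ⁻¹ᵁ V) := IsOpenImmersion.lift ((ν X).left ⁻¹ᵁ V).ι u'.left hV
  have hs : s ≫ ((ν X).left ⁻¹ᵁ V).ι = u'.left := IsOpenImmersion.lift_fac _ _ _
  have hsV : s ≫ ((ν X).left ∣_ V) = u.left.isoOpensRange.hom := by
    rw [← cancel_mono V.ι, Category.assoc, morphismRestrict_ι, reassoc_of% hs, hu'']
    exact (Scheme.Hom.isoOpensRange_hom_ι u.left).symm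
  have : Nonempty V := ⟨⟨u.left (Classical.arbitrary _), ⟨_, rfl⟩⟩⟩
  have hVint : IsIntegral (V : Scheme.{u}) := inferInstance
  have : Nonempty ((ν X).left ⁻¹ᵁ V) := ⟨s (Classical.arbitrary _)⟩
  have hVint' : IsIntegral (((ν X).left ⁻¹ᵁ V : (nor X).left.Opens) : Scheme.{u}) := inferInstance
  have hVn : Pi1.IsNormalScheme (V : Scheme.{u}) := fun x =>
    Ega4dA.SmoothStalk.stalk_of_smooth hn₀ u.left.isoOpensRange.inv x
  have hop : IsOpenImmersion (s ≫ ((ν X).left ∣_ V)) := by rw [hsV]; infer_instance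
  have hiso : IsIso ((ν X).left ∣_ V) := Ega2.Normal.isIso_of_isOpenImmersion_comp hVn ((ν X).left ∣_ V) s
  have hs2 : s = u.left.isoOpensRange.hom ≫ inv ((ν X).left ∣_ V) := by rw [← hsV]; simp
  rw [← hs, hs2]
  infer_instance

/-- The normalisation of an equivariant projective completion. -/
theorem exists_normal {k : Type u} [Field k] [IsAlgClosed k] {G X₀ X : Over (Spec (CommRingCat.of k))} [GrpObj G]
    [Smooth G.hom] [QuasiCompact G.hom] [ConnectedSpace ↥G.left] (a : AlgGrp.Action G X) (a₀ : AlgGrp.Action G X₀)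
    (u : X₀ ⟶ X) [IsOpenImmersion u.left] (hu : (G ◁ u) ≫ a.act = a₀.act ≫ u) [IsIntegral X.left]
    [Smooth X₀.hom] [Nonempty ↥X₀.left] (n : ℕ) (c : X.left ⟶ CohB1.ProjSpace n k) [IsClosedImmersion c]
    (hc : c ≫ CohB1.ProjSpace.toSpec n k = X.hom) :
    ∃ (X' : Over (Spec (CommRingCat.of k))) (a' : AlgGrp.Action G X') (u' : X₀ ⟶ X') (n' : ℕ)
      (c' : X'.left ⟶ CohB1.ProjSpace n' k), IsClosedImmersion c' ∧ c' ≫ CohB1.ProjSpace.toSpec n' k = X'.hom ∧
      IsIntegral X'.left ∧ Pi1.IsNormalScheme X'.left ∧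
      IsOpenImmersion u'.left ∧ IsDominant u'.left ∧ (G ◁ u') ≫ a'.act = a₀.act ≫ u' := by
  have hpr : IsProper (CohB1.ProjSpace.toSpec n k) := Ega3B.ProjProper.isProper_toSpec n k
  have hX : IsProper X.hom := by rw [← hc]; infer_instance
  let _ : X.left.Over (Spec (CommRingCat.of k)) := ⟨X.hom⟩
  have hlft : LocallyOfFiniteType (X.left ↘ (Spec (CommRingCat.of k))) := inferInstanceAs (LocallyOfFiniteType X.hom)
  obtain ⟨hfin, hdom, -, hint, hn⟩ := Groth.Agent.S1585.result k X.left
  have h1 : IsFinite (ν X).left := hfin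
  have h2 : IsDominant (ν X).left := hdom
  have hsurj : Surjective (ν X).left := inferInstance
  have h5 : IsIntegral (nor X).left := hint
  have hG : IsIntegral G.left := K406.GrpInt.isIntegral_grp G
  have hX₀ : IsIntegral X₀.left := isIntegral_of_isOpenImmersion u.left
  have i1 : IsIntegral (G ⊗ X₀).left := K528.Irr.isIntegral_tensor G X₀
  have hsp : Pi1.IsNormalScheme (Spec (CommRingCat.of k)) := isNormalScheme_spec k
  have hn₀ : Pi1.IsNormalScheme X₀.left := fun x => Ega4dA.SmoothStalk.stalk_of_smooth hsp X₀.hom x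
  obtain ⟨b, hb⟩ := exists_act a hn
  have hud : IsDominant u.left := by
    refine ⟨?_⟩
    exact u.left.isOpenEmbedding.isOpen_range.dense (Set.range_nonempty _)
  obtain ⟨u', hu'⟩ := exists_lift X u hn₀
  obtain ⟨n', c', hc', hcs⟩ := exists_closedImmersion n c (ν X).left
  refine ⟨nor X, b, u', n', c', hc', ?_, h5, hn, ?_, ?_, ?_⟩
  · rw [hcs, hc]; rfl
  · exact isOpen_lift X u hn₀ u' hu'
  · have hop : IsOpenImmersion u'.left := isOpen_lift X u hn₀ u' hu'
    refine ⟨?_⟩
    exact u'.left.isOpenEmbedding.isOpen_range.dense (Set.range_nonempty _)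
  · have hsa : Surjective a₀.act.left := surjective_of_one_act a₀.act a₀.one_act
    have : IsDominant ((a₀.act ≫ u') ≫ ν X).left := by
      rw [Category.assoc, hu', Over.comp_left]; infer_instance
    refine (lift_ext X (a₀.act ≫ u') ((G ◁ u') ≫ b.act) (isNormal_tensor G X₀ hn₀) ?_).symm
    rw [Category.assoc, Category.assoc, ← hb, hu', ← hu, ← MonoidalCategory.whiskerLeft_comp_assoc, hu']

end K492.EqNorm
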